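import Mathlib
import Cfsg.Prelude.Def_ChevStructure
import Cfsg.Prelude.Def_LieTwisted
import Cfsg.Agent.Lib.helper14.TWI.Defs

/-!
# Project TWIE6 (S2182): the data for `²E₆(q)`, `q` even

Roots of `chevE6`: `56, 46, 42, 39, 37, 36` are the fundamental roots `p₁, …, p₆` (Bourbaki), `71` is the highest root. The
graph automorphism `ρ` swaps `p₁ ↔ p₆`, `p₃ ↔ p₅` and fixes `p₂`, `p₄`. The data were computed with helper14's tools
(`Lib/helper14/TWI/NOTES_E6.md`, `TWI/tools`), see `PLAN.md`.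
-/

set_option autoImplicit false

namespace Cfsg.Agent.Lib.helper6.TWIE6

open Cfsg.Lie Cfsg.Lie.ChevalleyDatum Cfsg.Agent.Lib.helper8 Cfsg.Agent.Lib.helper14
  Cfsg.Agent.Lib.helper14.INV Cfsg.Agent.Lib.helper14.TWI

/-- the graph automorphism `ρ` of `E₆` on the 72 roots (helper8 `h8aS_E6_1`) -/
def te6Sig : List ℕ :=
  [0, 1, 2, 5, 16, 3, 6, 17, 8, 19, 22, 11, 26, 30, 33, 35, 4, 7, 18, 9, 20, 23, 10, 21, 24, 25, 12, 27, 31, 34, 13, 28, 32, 14, 29, 15, 56, 42, 57, 39, 43, 58, 37, 40, 44, 59, 46, 47, 50, 61, 48, 51, 62, 53, 64, 67, 36, 38, 41, 45, 60, 49, 52, 63, 54, 65, 68, 55, 66, 69, 70, 71]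

/-- the orbits of the graph automorphism on the fundamental reflections (`simple 0..5 = p₁..p₆`, Bourbaki) -/
def te6Orbs : List (List ℕ) := [[1], [3], [2, 4], [0, 5]]

/-- the twelve elements of `W(E₆)` with the property `JPropT`, as lists of the images of the 72 roots; the last one is the
identity -/
def te6Tabs : List (List ℕ) :=
  [[71, 46, 47, 48, 49, 50, 51, 52, 53, 54, 55, 11, 12, 13, 14, 15, 61, 62, 63, 64, 65, 66, 67, 68, 69, 70, 26, 27, 28, 29, 30, 31, 32, 33, 34, 35, 36, 37, 38, 39, 40, 41, 42, 43, 44, 45, 1, 2, 3, 4, 5, 6, 7, 8, 9, 10, 56, 57, 58, 59, 60, 16, 17, 18, 19, 20, 21, 22, 23, 24, 25, 0],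
   [60, 63, 65, 68, 36, 66, 69, 38, 70, 41, 45, 71, 49, 52, 54, 55, 56, 57, 18, 58, 20, 23, 59, 21, 24, 25, 61, 27, 31, 34, 62, 28, 32, 64, 29, 67, 4, 42, 7, 39, 43, 9, 37, 40, 44, 10, 46, 47, 50, 12, 48, 51, 13, 53, 14, 15, 16, 17, 19, 22, 0, 26, 30, 1, 33, 2, 5, 35, 3, 6, 8, 11],
   [71, 63, 65, 66, 49, 68, 69, 52, 70, 54, 55, 60, 36, 38, 41, 45, 61, 62, 46, 64, 47, 48, 67, 50, 51, 53, 56, 27, 28, 29, 57, 31, 32, 58, 34, 59, 12, 37, 13, 39, 40, 14, 42, 43, 44, 15, 18, 20, 21, 4, 23, 24, 7, 25, 9, 10, 26, 30, 33, 35, 11, 16, 17, 1, 19, 2, 3, 22, 5, 6, 8, 0],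
   [71, 69, 70, 55, 66, 67, 51, 62, 53, 64, 48, 44, 59, 37, 40, 35, 68, 52, 63, 54, 65, 49, 50, 61, 46, 47, 45, 60, 38, 41, 42, 57, 32, 43, 58, 15, 56, 13, 28, 39, 14, 29, 30, 33, 11, 26, 24, 25, 10, 21, 22, 6, 17, 8, 19, 3, 36, 31, 34, 12, 27, 23, 7, 18, 9, 20, 4, 5, 16, 1, 2, 0],
   [70, 71, 69, 55, 66, 67, 53, 64, 44, 59, 40, 51, 62, 48, 37, 35, 68, 54, 65, 45, 60, 41, 43, 58, 39, 25, 52, 63, 49, 38, 50, 61, 47, 42, 57, 15, 56, 14, 29, 24, 10, 21, 33, 22, 8, 19, 46, 32, 13, 28, 30, 11, 26, 6, 17, 3, 36, 34, 23, 9, 20, 31, 12, 27, 7, 18, 4, 5, 16, 2, 0, 1],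
   [70, 71, 65, 68, 54, 66, 69, 55, 60, 41, 45, 63, 49, 52, 36, 38, 64, 67, 53, 58, 39, 43, 59, 40, 44, 25, 61, 47, 50, 34, 62, 48, 51, 56, 29, 57, 14, 42, 15, 20, 23, 9, 37, 21, 24, 10, 46, 27, 31, 12, 28, 32, 13, 18, 4, 7, 33, 35, 19, 22, 8, 26, 30, 11, 16, 2, 5, 17, 3, 6, 0, 1],
   [71, 70, 69, 55, 66, 67, 53, 64, 51, 62, 48, 44, 59, 40, 37, 35, 68, 54, 65, 52, 63, 49, 50, 61, 47, 46, 45, 60, 41, 38, 43, 58, 39, 42, 57, 15, 56, 14, 29, 32, 13, 28, 33, 30, 11, 26, 25, 24, 10, 21, 22, 8, 19, 6, 17, 3, 36, 34, 31, 12, 27, 23, 9, 20, 7, 18, 4, 5, 16, 2, 1, 0],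
   [71, 70, 65, 68, 54, 66, 69, 55, 63, 49, 52, 60, 41, 45, 36, 38, 64, 67, 53, 61, 47, 50, 62, 48, 51, 46, 58, 39, 43, 34, 59, 40, 44, 56, 29, 57, 14, 42, 15, 27, 31, 12, 37, 28, 32, 13, 25, 20, 23, 9, 21, 24, 10, 18, 4, 7, 33, 35, 26, 30, 11, 19, 22, 8, 16, 2, 5, 17, 3, 6, 1, 0],
   [71, 69, 70, 66, 55, 68, 63, 52, 65, 54, 49, 60, 45, 38, 41, 36, 67, 62, 51, 64, 53, 48, 61, 50, 46, 47, 59, 44, 37, 40, 57, 42, 32, 58, 43, 56, 15, 28, 13, 39, 29, 14, 31, 34, 27, 12, 24, 25, 21, 10, 23, 18, 7, 20, 9, 4, 35, 30, 33, 26, 11, 22, 17, 6, 19, 8, 3, 16, 5, 1, 2, 0],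
   [70, 71, 69, 66, 55, 68, 65, 54, 60, 45, 41, 63, 52, 49, 38, 36, 67, 64, 53, 59, 44, 40, 58, 43, 39, 25, 62, 51, 48, 37, 61, 50, 47, 57, 42, 56, 15, 29, 14, 24, 21, 10, 34, 23, 20, 9, 46, 32, 28, 13, 31, 27, 12, 18, 7, 4, 35, 33, 22, 19, 8, 30, 26, 11, 17, 6, 3, 16, 5, 2, 0, 1],
   [71, 70, 69, 66, 55, 68, 65, 54, 63, 52, 49, 60, 45, 41, 38, 36, 67, 64, 53, 62, 51, 48, 61, 50, 47, 46, 59, 44, 40, 37, 58, 43, 39, 57, 42, 56, 15, 29, 14, 32, 28, 13, 34, 31, 27, 12, 25, 24, 21, 10, 23, 20, 9, 18, 7, 4, 35, 33, 30, 26, 11, 22, 19, 8, 17, 6, 3, 16, 5, 2, 1, 0],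
   [0, 1, 2, 3, 4, 5, 6, 7, 8, 9, 10, 11, 12, 13, 14, 15, 16, 17, 18, 19, 20, 21, 22, 23, 24, 25, 26, 27, 28, 29, 30, 31, 32, 33, 34, 35, 36, 37, 38, 39, 40, 41, 42, 43, 44, 45, 46, 47, 48, 49, 50, 51, 52, 53, 54, 55, 56, 57, 58, 59, 60, 61, 62, 63, 64, 65, 66, 67, 68, 69, 70, 71]]

/-- for each of the first eleven tables, pairwise orthogonal positive roots, stable under the graph automorphism, whose
reflections multiply to it -/
def te6Std : List (List ℕ) :=
  [[71], [66, 68], [60, 71], [45, 59, 71], [54, 64, 69], [53, 66, 68], [39, 45, 59, 71], [40, 43, 60, 71], [44, 60, 71], [53, 65, 69], [39, 44, 60, 71]]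

/-- the class representative to which `∏ x_r(1)`, `r ∈ te6Std[k]`, is conjugate in `²E₆(q)` -/
def te6Rep : List (List ℕ) :=
  [[71], [68, 66], [68, 66], [55, 65, 67], [55, 65, 67], [55, 65, 67], [55, 65, 67], [55, 65, 67], [55, 65, 67], [55, 65, 67], [55, 65, 67]]

/-- the three class representatives: `x_71(1)` (class `A₁`), `x_68(1) x_66(1)` (`2A₁`), `x_55(1) x_65(1) x_67(1)` (`3A₁`); they are
the representatives `e6Reps` of project INVE6 (helper21, S2175), and they are stable under `ρ` (`66 ↔ 68`, `55 ↔ 67`, `65` fixed) -/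
def te6Reps : List (List ℕ) := [[71], [68, 66], [55, 65, 67]]

/-- the orbits of `ρ` on the roots, as lists `[r]` (`ρ r = r`) or `[r, ρ r]`, one for every root `r` (so both orders of a pair
occur) -/
def te6RhoOrbs : List (List ℕ) :=
  (List.range 72).map fun r => if te6Sig.getD r 0 = r then [r] else [r, te6Sig.getD r 0]

/-- intermediate targets of the fusion by coefficient-one moves: the representative itself, except for `k = 1` (the same element
as `x_68(1) x_66(1)`, written in increasing order) and `k = 2` (`x_66(1) x_68(1) x_71(1)`, which is fused into `x_68(1) x_66(1)` by an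
element `x_50(c) x_48(c^q)` with `c + c^q = 1`) -/
def te6Mid : List (List ℕ) :=
  [[71], [66, 68], [66, 68, 71], [55, 65, 67], [55, 65, 67], [55, 65, 67], [55, 65, 67], [55, 65, 67], [55, 65, 67], [55, 65, 67], [55, 65, 67]]

/-- the fusion moves `te6Std[k] → te6Mid[k]`: `(true, S)` = conjugation by `∏ x_s(1)`, `s ∈ S` (an orbit of `ρ` on the positive roots),
`(false, O)` = conjugation by `n_O` (found by a breadth first search, `tools/e6fuse2.py`) -/
def te6FuseBlocks : List (List (Bool × List ℕ)) :=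
  [[],
   [],
   [(true, [48, 50]), (false, [1]), (false, [3]), (false, [2, 4]), (false, [3]), (false, [1])],
   [(false, [1]), (false, [3]), (false, [2, 4])],
   [(false, [2, 4])],
   [(false, [0, 5])],
   [(true, [47]), (true, [52, 62]), (true, [69]), (false, [1]), (false, [3]), (false, [2, 4]), (false, [3]), (false, [2, 4]), (false, [0, 5]), (false, [2, 4]), (false, [3])],
   [(true, [48, 50]), (true, [53]), (true, [63]), (false, [1]), (false, [3]), (false, [2, 4]), (false, [3]), (false, [0, 5]), (false, [2, 4]), (false, [3]), (false, [2, 4])],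
   [(true, [36, 56]), (true, [48, 50]), (false, [1]), (false, [3]), (false, [0, 5]), (false, [2, 4]), (true, [37, 42])],
   [(true, [36, 56]), (true, [37, 42]), (false, [0, 5]), (false, [2, 4]), (true, [37, 42])],
   [(true, [36, 56]), (true, [37, 42]), (true, [47]), (true, [69]), (false, [1]), (false, [3]), (false, [0, 5]), (false, [2, 4]), (false, [3]), (false, [2, 4]), (true, [37, 42]), (true, [36, 56]), (false, [0, 5]), (false, [2, 4]), (false, [3])]]

/-- the moves of a list of blocks in the format of `helper14.INV.fuseb_run`: the block `(b, [s₁, …, sₙ])` becomes the moves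
`(b, sₙ), …, (b, s₁)`, so that the conjugating element of the block is `x_{s₁}(1) ⋯ x_{sₙ}(1)` resp. `n_{s₁} ⋯ n_{sₙ}` -/
def te6Moves (bs : List (Bool × List ℕ)) : List (Bool × ℕ) :=
  bs.flatMap fun b => b.2.reverse.map fun s => (b.1, s)

/-! ## generic definitions -/

/-- the fundamental reflections of the orbits permuted by `w` -/
def PermJ (D : ChevalleyDatum) (orbs : List (List ℕ)) (w : List ℕ) : Set ℕ :=
  {i | i < D.rank ∧ ∃ O ∈ orbs, i ∈ O ∧ PermO D w O}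

/-- the checkable property used by the twisted form of LS: every positive non-fundamental root `r` has an orbit `O` containing a
fundamental root of the support of `r` such that `s_O r` is a positive root of smaller height -/
def lsChkT (D : ChevalleyDatum) (orbs : List (List ℕ)) : Bool :=
  (List.range D.nroots).all fun r =>
    !decide (D.IsPosRoot r) || (List.range D.rank).any (fun i => D.simple i == r) ||
      orbs.any fun O =>
        (O.any fun i => decide (0 < (D.coroot.getD r #[]).getD i 0)) &&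
        decide (D.IsPosRoot (h8sW D O r)) &&
        decide (((D.coroot.getD (h8sW D O r) #[]).toList.sum : ℤ) <
          ((D.coroot.getD r #[]).toList.sum : ℤ))

end Cfsg.Agent.Lib.helper6.TWIE6
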