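import Mathlib
import Cfsg.Prelude.Def_ChevStructure
import Cfsg.Prelude.Def_LieTwisted
import Cfsg.Agent.Lib.helper6.TWIE6.Defs
import Cfsg.Agent.Lib.helper14.TWI.Gen
import Cfsg.Agent.Lib.helper14.INVNCb
import Cfsg.Agent.Lib.helper14.INVHodd
import Cfsg.Agent.Lib.helper8.ChevTwB7
import Cfsg.Agent.Lib.helper23.INVSAMEPERM
import Cfsg.Agent.Lib.Helper16.TWILEMNS
import Cfsg.Agent.Lib.Helper22.INVCOLL
import Cfsg.Agent.Lib.helper14.TWIE6TAB
import Cfsg.Agent.Lib.helper14.TWIE6LS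
import Cfsg.Agent.Lib.helper14.TWIE6FUSEB
import Cfsg.Agent.Lib.Helper19.TWIE6STDN
import Cfsg.Agent.Lib.Helper19.TWIE6STDA
import Cfsg.Agent.Lib.Helper19.TWIE6STDM
import Cfsg.Agent.Lib.Helper12.TWIE6STDC
import Cfsg.Agent.Lib.Helper12.TWIE6INST0
import Cfsg.Agent.Lib.Helper12.TWIE6INST1
import Cfsg.Agent.Lib.Helper12.TWIE6INST2
import Cfsg.Agent.Lib.Helper12.TWIE6INST3
import Cfsg.Agent.Lib.Helper12.TWIE6INST4
import Cfsg.Agent.Lib.Helper22.TWIE6FUSEA
import Cfsg.Agent.Lib.Helper11.TWIE6FUSEC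

/-!
# Project TWIE6 (S2182): the assembly for `²E₆(q)` — every involution is conjugate to one of the three representatives
-/

set_option autoImplicit false

namespace Cfsg.Agent.Lib.helper6.TWIE6

open Cfsg.Lie Cfsg.Lie.ChevalleyDatum Cfsg.Agent.Lib.helper8 Cfsg.Agent.Lib.helper14
  Cfsg.Agent.Lib.helper14.INV Cfsg.Agent.Lib.helper14.TWI

universe u

variable {K : Type u} [Field K]

theorem te6_cjS_trans (D : ChevalleyDatum) (G₁ : Subgroup (GL D.Idx K)) {a b c : GL D.Idx K}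
    (h1 : CjS D G₁ a b) (h2 : CjS D G₁ b c) : CjS D G₁ a c := by
  obtain ⟨g, hg, e1⟩ := h1
  obtain ⟨g', hg', e2⟩ := h2
  refine ⟨g' * g, Subgroup.mul_mem _ hg' hg, ?_⟩
  rw [← e2, ← e1]; group

theorem te6_cjS_of_eq (D : ChevalleyDatum) (G₁ : Subgroup (GL D.Idx K)) {a b : GL D.Idx K}
    (h : a = b) : CjS D G₁ a b :=
  ⟨1, Subgroup.one_mem _, by rw [h]; group⟩

theorem te6_rep_mem (k : ℕ) (hk : k < 11) : te6Rep.getD k [] ∈ te6Reps := by
  interval_cases k <;> simp [te6Rep, te6Reps]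

theorem te6_mem_list : chevE6 ∈ [chevG2, chevB2, chevD4, chevF4, chevE6, chevE7, chevE8] := by simp

/-- the products over concatenations of orbits lie in `G₁` -/
theorem te6_w1_flatten_mem (D : ChevalleyDatum) (hB : H8Base.{u} D) (G₁ : Subgroup (GL D.Idx K))
    (Rs : List (List ℕ)) (h : ∀ R ∈ Rs, (w1 D hB R : GL D.Idx K) ∈ G₁) :
    (w1 D hB Rs.flatten : GL D.Idx K) ∈ G₁ := by
  induction Rs with
  | nil =>
    rw [List.flatten_nil, w1_nil]
    exact Subgroup.one_mem _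
  | cons R Rs ih =>
    rw [List.flatten_cons, invcoll_w1_append]
    exact Subgroup.mul_mem _ (h R List.mem_cons_self)
      (ih fun R' hR' => h R' (List.mem_cons_of_mem _ hR'))

theorem te6_orb_data : ∀ O ∈ te6Orbs, IsOrb chevE6 O ∧ O ≠ [] ∧
    (O.map fun j => chevE6.neg (chevE6.simple j)) ∈ te6RhoOrbs := by
  simp only [IsOrb]
  decide +kernel

theorem te6_tab_id : ∀ r < 72, (te6Tabs.getD 11 []).getD r 0 = r := by decide

theorem te6_mid_rep : ∀ k < 11, k ≠ 1 → k ≠ 2 → te6Mid.getD k [] = te6Rep.getD k [] := by decide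

/-- every involution of `²E₆(q)` is conjugate in `²E₆(q)` to one of the three representatives -/
theorem te6_invol_class [Fintype K] [CharP K 2] (q : ℕ) (hK : Fintype.card K = q ^ 2)
    (t : GL chevE6.Idx K) (ht : t ∈ twistedE6 K q) (ho : orderOf t = 2) :
    ∃ a ∈ te6Reps, CjS chevE6 (twistedE6 K q) t
      (w1 chevE6 (h8base_all.{u} chevE6 te6_mem_list) a : GL chevE6.Idx K) := by
  have hD := te6_mem_list
  have hB := h8base_all.{u} chevE6 hD
  have hB0 := h8base_all.{0} chevE6 hD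
  have hA := h8reflAll chevE6 hD
  have hC := h8commAll.{u} chevE6 hD
  have hBN := h8bn_all chevE6 hD
  have hW := h8bn2_all chevE6 hD
  obtain ⟨hO, hO2⟩ := h8ord_all chevE6 hD
  have hq := te6_primePow q hK
  set G₁ := twistedE6 K q with hG₁def
  have hG₁ : G₁ ≤ chevE6.group K := h8gen_le_group chevE6 hB _
  have hsq : t * t = 1 := by
    have := pow_orderOf_eq_one t
    rw [ho, pow_two] at this
    exact this
  have hne : t ≠ 1 := by
    intro h
    rw [h, orderOf_one] at ho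
    omega
  obtain ⟨hmemW, hmemN⟩ := te6_mem q hq hK hB
  have horb : ∀ O ∈ te6Orbs, IsOrb chevE6 O ∧ O ≠ [] ∧ (xNegO chevE6 hB O : GL chevE6.Idx K) ∈ G₁ ∧
      (h8nWU chevE6 hB O : GL chevE6.Idx K) ∈ G₁ := by
    intro O hOo
    obtain ⟨h1, h2, h3⟩ := te6_orb_data O hOo
    refine ⟨h1, h2, ?_, hmemN O hOo⟩
    have e : (xNegO chevE6 hB O : GL chevE6.Idx K) =
        w1 chevE6 hB (O.map fun j => chevE6.neg (chevE6.simple j)) := by
      unfold xNegO w1 h8wordU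
      rw [List.map_map, List.map_map]
      rfl
    rw [e]
    exact hmemW _ h3
  -- the maximal cell
  obtain ⟨g, hg, w, hw, hJ, hid, h0, hh, e⟩ : ∃ g ∈ G₁, ∃ w : List ℕ, ValidW chevE6 w ∧
      JPropT chevE6 te6Orbs w ∧ (∃ r < chevE6.nroots, h8sW chevE6 w r ≠ r) ∧
      ∃ h0 ∈ chevE6.diagonalSubgroup K,
        g * t * g⁻¹ = h0 * (h8nWU chevE6 hB w : GL chevE6.Idx K) :=
    invol_conj_NS chevE6 hB hB0 hA hC hBN hW hO hO2 G₁ hG₁ (fun g hg => te6_NF q hq hK g hg) te6Orbs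
      horb (fun w hw h0 hh hm => te6_equi q hq hK hB w hw h0 hh hm)
      (fun w hw hJ hid => te6_LS w hw hJ hid) (fun k hk => te6_core q hq hK k hk) t ht hsq hne
  have htab := te6_struct w hw hJ
  have hn'G : h0 * (h8nWU chevE6 hB w : GL chevE6.Idx K) ∈ G₁ := by
    rw [← e]
    exact Subgroup.mul_mem _ (Subgroup.mul_mem _ hg ht) (Subgroup.inv_mem _ hg)
  have hn'N : h0 * (h8nWU chevE6 hB w : GL chevE6.Idx K) ∈ chevE6.monomialSubgroup K :=
    Subgroup.mul_mem _ (h8H_le_N chevE6 hh) (h8nWU_mem_N chevE6 hB hA w hw)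
  have hn'sq : (h0 * (h8nWU chevE6 hB w : GL chevE6.Idx K)) *
      (h0 * (h8nWU chevE6 hB w : GL chevE6.Idx K)) = 1 := by
    rw [← e]
    exact conjN_sq _ _ hsq
  have hn'act : ∀ r < 72, H8Act chevE6 hB (h0 * (h8nWU chevE6 hB w : GL chevE6.Idx K)) r
      (h8sW chevE6 w r) := by
    intro r hr
    have hr' : r < chevE6.nroots := hr
    have h1 := h8nWU_act (F := K) chevE6 hB hA w hw r hr'
    have h2 := h8perm_H_id chevE6 hB h0 hh (h8sW chevE6 w r) (h8sW_lt chevE6 hA w hw r hr')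
    exact h8act_mul chevE6 hB h0 _ _ _ _ h1 h2
  have hodd : Odd (Nat.card (chevE6.diagonalSubgroup K)) := H_card_odd chevE6 hD
  obtain ⟨k, hk, hkeq⟩ := List.getElem_of_mem htab
  have hk12 : k < 12 := hk
  have hσ : ∀ r < 72, h8sW chevE6 w r = (te6Tabs.getD k []).getD r 0 := by
    intro r hr
    have h1 : ((List.range 72).map (h8sW chevE6 w)).getD r 0 = h8sW chevE6 w r := by
      rw [List.getD_eq_getElem _ _ (by simpa using hr)]
      simp
    rw [← h1, ← hkeq, List.getD_eq_getElem _ _ hk]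
  have hk11 : k < 11 := by
    by_contra hcon
    have hk11' : k = 11 := by omega
    subst hk11'
    obtain ⟨r, hr, hrne⟩ := hid
    apply hrne
    rw [hσ r hr]
    exact te6_tab_id r hr
  obtain ⟨hzN, hzsq⟩ := te6_std_N (K := K) hB k hk11
  have hzact := fun r hr => te6_std_act (K := K) hB k hk11 r hr
  -- the standard root elements lie in `G₁`
  obtain ⟨⟨Rs, hRs, eRs⟩, ⟨Rs', hRs', eRs'⟩⟩ := te6_std_split k hk11
  have hwG : (w1 chevE6 hB (te6Std.getD k []) : GL chevE6.Idx K) ∈ G₁ := by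
    rw [eRs]
    exact te6_w1_flatten_mem chevE6 hB G₁ Rs fun R hR => hmemW R (hRs R hR)
  have hwG' : (w1 chevE6 hB ((te6Std.getD k []).map chevE6.neg) : GL chevE6.Idx K) ∈ G₁ := by
    rw [eRs']
    exact te6_w1_flatten_mem chevE6 hB G₁ Rs' fun R hR => hmemW R (hRs' R hR)
  have hcj := te6_std_cj (K := K) hB k hk11
  have hzG : (n1 chevE6 hB (te6Std.getD k []) : GL chevE6.Idx K) ∈ G₁ := by
    have e' : (n1 chevE6 hB (te6Std.getD k []) : GL chevE6.Idx K) =
        (w1 chevE6 hB ((te6Std.getD k []).map chevE6.neg) : GL chevE6.Idx K)⁻¹ *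
          w1 chevE6 hB (te6Std.getD k []) * w1 chevE6 hB ((te6Std.getD k []).map chevE6.neg) := by
      rw [← hcj]
      group
    rw [e']
    exact Subgroup.mul_mem _ (Subgroup.mul_mem _ (Subgroup.inv_mem _ hwG') hwG) hwG'
  have hH := N_same_perm chevE6 hB hA hBN hW hO2
    (h0 * (h8nWU chevE6 hB w : GL chevE6.Idx K)) _ hn'N hzN
    (fun r => (te6Tabs.getD k []).getD r 0)
    (fun r hr => by have := hn'act r hr; rwa [hσ r hr] at this) hzact
  obtain ⟨h, hhZ, eh⟩ := N_invol_conjS chevE6 hB hA hBN hodd _ _ hn'N hzN hn'sq hzsq hH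
  have hhG : h ∈ G₁ := by
    have hle : Subgroup.zpowers ((h0 * (h8nWU chevE6 hB w : GL chevE6.Idx K))⁻¹ *
        n1 chevE6 hB (te6Std.getD k [])) ≤ G₁ := by
      rw [Subgroup.zpowers_le]
      exact Subgroup.mul_mem _ (Subgroup.inv_mem _ hn'G) hzG
    exact hle hhZ
  have hc1 : CjS chevE6 G₁ t (n1 chevE6 hB (te6Std.getD k []) : GL chevE6.Idx K) := by
    refine ⟨h * g, Subgroup.mul_mem _ hhG hg, ?_⟩
    rw [← eh, ← e]; group
  have hc2 : CjS chevE6 G₁ (n1 chevE6 hB (te6Std.getD k []) : GL chevE6.Idx K)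
      (w1 chevE6 hB (te6Std.getD k [])) := ⟨_, hwG', hcj⟩
  have hc3 : CjS chevE6 G₁ (w1 chevE6 hB (te6Std.getD k []) : GL chevE6.Idx K)
      (w1 chevE6 hB (te6Mid.getD k [])) := te6_fuse_core hB G₁ hmemW hmemN k hk11
  have hc4 : CjS chevE6 G₁ (w1 chevE6 hB (te6Mid.getD k []) : GL chevE6.Idx K)
      (w1 chevE6 hB (te6Rep.getD k [])) := by
    by_cases h1 : k = 1
    · subst h1
      exact te6_cjS_of_eq chevE6 G₁ (te6_swap hB)
    · by_cases h2 : k = 2
      · subst h2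
        exact te6_fuse_trace q hq hK hB
      · rw [te6_mid_rep k hk11 h1 h2]
        exact te6_cjS_of_eq chevE6 G₁ rfl
  exact ⟨te6Rep.getD k [], te6_rep_mem k hk11,
    te6_cjS_trans chevE6 G₁ hc1 (te6_cjS_trans chevE6 G₁ hc2 (te6_cjS_trans chevE6 G₁ hc3 hc4))⟩

end Cfsg.Agent.Lib.helper6.TWIE6
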